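import Groth.Agent.Lib.CMFree.Regular
import Mathlib.AlgebraicGeometry.Morphisms.SchemeTheoreticallyDominant
import Mathlib.AlgebraicGeometry.Fiber
import Mathlib.AlgebraicGeometry.FunctionField
import Mathlib.AlgebraicGeometry.Noetherian
import Groth.Agent.Lib.FFDesc.Basic
import Mathlib.RingTheory.Flat.TorsionFree
import Mathlib.RingTheory.DiscreteValuationRing.TFAE

/-!
# Flat closures over regular bases of dimension at most one
-/

set_option linter.style.haveILetI false
set_option backward.isDefEq.respectTransparency false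

universe u

open CategoryTheory Limits AlgebraicGeometry IsLocalRing

namespace GrothLib.FlatClosure

/-- A regular local ring of dimension at most one is a valuation ring. -/
theorem valuationRing_of_regular {R : Type u} [CommRing R] [IsRegularLocalRing R]
    (h : ringKrullDim R ≤ 1) : ∃ _ : IsDomain R, ValuationRing R := by
  have := GrothLib.CMFree.isDomain_of_isRegularLocalRing R
  refine ⟨this, ?_⟩
  by_cases hf : IsField R
  · letI := hf.toField
    infer_instance
  have hle : (maximalIdeal R).spanFinrank ≤ 1 := by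
    have := (IsRegularLocalRing.spanFinrank_maximalIdeal (R := R)).le.trans h
    exact_mod_cast this
  have hp : (maximalIdeal R).IsPrincipal := by
    obtain ⟨s, hs, hspan⟩ :=
      Submodule.FG.exists_span_set_encard_eq_spanFinrank (p := maximalIdeal R) (Ideal.fg_of_isNoetherianRing _)
    have hsub : s.Subsingleton := Set.encard_le_one_iff_subsingleton.1 (hs ▸ by exact_mod_cast hle)
    rcases hsub.eq_empty_or_singleton with rfl | ⟨a, rfl⟩
    · exact absurd (IsLocalRing.isField_iff_maximalIdeal_eq.2 (by simpa using hspan.symm)) hf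
    · exact ⟨a, hspan.symm⟩
  haveI : IsDiscreteValuationRing R := ((IsDiscreteValuationRing.TFAE R hf).out 0 4).2 hp
  infer_instance

/-- Torsion free modules over coordinate rings are flat. -/
theorem flat_of_isTorsionFree {Y : Scheme.{u}} [IsIntegral Y]
    (hY : ∀ y : Y, IsRegularLocalRing (Y.presheaf.stalk y) ∧ ringKrullDim (Y.presheaf.stalk y) ≤ 1)
    {V : Y.Opens} (hV : IsAffineOpen V) [Nonempty V] {M : Type u} [AddCommGroup M] [Module Γ(Y, V) M]
    (h : ∀ (a : Γ(Y, V)) (m : M), a • m = 0 → a = 0 ∨ m = 0) : Module.Flat Γ(Y, V) M := by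
  haveI : IsDomain Γ(Y, V) := inferInstance
  refine (Module.Flat.flat_iff_torsion_eq_bot_of_valuationRing_localization_isMaximal (R := Γ(Y, V))
    fun P hP => ?_).2 ?_
  · have hmem : hV.fromSpec ⟨P, hP.isPrime⟩ ∈ V := by
      rw [← SetLike.mem_coe, ← hV.range_fromSpec]
      exact Set.mem_range_self _
    letI := TopCat.Presheaf.algebra_section_stalk Y.presheaf ⟨_, hmem⟩
    haveI : IsLocalization P.primeCompl (Y.presheaf.stalk (hV.fromSpec ⟨P, hP.isPrime⟩)) :=
      hV.isLocalization_stalk' ⟨P, hP.isPrime⟩ hmem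
    let e : Localization P.primeCompl ≃+* Y.presheaf.stalk (hV.fromSpec ⟨P, hP.isPrime⟩) :=
      (IsLocalization.algEquiv P.primeCompl _ _).toRingEquiv
    haveI : IsRegularLocalRing (Localization P.primeCompl) :=
      haveI := (hY (hV.fromSpec ⟨P, hP.isPrime⟩)).1
      IsRegularLocalRing.of_ringEquiv e.symm
    exact (valuationRing_of_regular ((ringKrullDim_eq_of_ringEquiv e).le.trans (hY _).2)).2
  · rw [← Submodule.isTorsionFree_iff_torsion_eq_bot]
    exact Module.IsTorsionFree.of_smul_eq_zero h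

/-- The map to the scheme theoretic image is scheme theoretically dominant. -/
theorem ker_toImage {X Y : Scheme.{u}} (q : X ⟶ Y) [QuasiCompact q] : q.toImage.ker = ⊥ := by
  refine Scheme.IdealSheafData.ext_of_iSup_eq_top
    (fun U : Y.affineOpens => ⟨q.imageι ⁻¹ᵁ U, U.2.preimage q.imageι⟩) ?_ fun U => ?_
  · show (⨆ U : Y.affineOpens, q.imageι ⁻¹ᵁ (U : Y.Opens)) = ⊤
    rw [← Scheme.Hom.preimage_iSup, iSup_affineOpens_eq_top Y]
    rfl
  · rw [Scheme.Hom.ker_apply, Scheme.IdealSheafData.ideal_bot, Pi.bot_apply]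
    exact (RingHom.injective_iff_ker_eq_bot _).1 (q.toImage_app_injective U)

variable {X Y : Scheme.{u}} [IsIntegral Y]

theorem quasiCompact_fromSpecResidueField (η : Y) : QuasiCompact (Y.fromSpecResidueField η) :=
  ⟨fun U _ _ => (Set.toFinite _).isCompact⟩

instance flat_fromSpecResidueField_genericPoint :
    Flat (Y.fromSpecResidueField (genericPoint Y)) := by
  have hF : IsField (Y.presheaf.stalk (genericPoint Y)) := (inferInstance : Field Y.functionField) |>.toIsField
  letI := hF.toField
  haveI : Flat (Y.fromSpecStalk (genericPoint Y)) := GrothLib.FFDesc.flat_fromSpecStalk' _ _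
  haveI : IsIso (Y.residue (genericPoint Y)) := by
    rw [ConcreteCategory.isIso_iff_bijective]
    exact ⟨RingHom.injective _, Y.residue_surjective _⟩
  rw [Scheme.fromSpecResidueField]
  infer_instance

instance isSchemeTheoreticallyDominant_fromSpecResidueField_genericPoint :
    IsSchemeTheoreticallyDominant (Y.fromSpecResidueField (genericPoint Y)) := by
  haveI : IsDominant (Y.fromSpecResidueField (genericPoint Y)) := ⟨by
    rw [DenseRange, Scheme.range_fromSpecResidueField, dense_iff_closure_eq]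
    exact (genericPoint_spec Y).def⟩
  exact IsSchemeTheoreticallyDominant.of_isDominant _

variable [IsLocallyNoetherian Y]
    (hY : ∀ y : Y, IsRegularLocalRing (Y.presheaf.stalk y) ∧ ringKrullDim (Y.presheaf.stalk y) ≤ 1)

include hY in
/-- A scheme receiving a scheme theoretically dominant map from the generic fibre is flat. -/
theorem flat_of_dominant {Z Z' : Scheme.{u}} (g : Z ⟶ Y) (w : Z' ⟶ Z) [QuasiCompact w]
    [IsSchemeTheoreticallyDominant w] (h : ∀ z : Z', g (w z) = genericPoint Y) : Flat g := by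
  refine ⟨fun {V} hV {U} hU e => ?_⟩
  rcases isEmpty_or_nonempty V with hVe | hVn
  · haveI : Subsingleton Γ(Y, V) := by
      have : V = ⊥ := TopologicalSpace.Opens.ext (Set.eq_empty_iff_forall_notMem.2 fun x hx =>
        hVe.false ⟨x, hx⟩)
      subst this
      infer_instance
    letI := (g.appLE V U e).hom.toAlgebra
    show Module.Flat Γ(Y, V) Γ(Z, U)
    haveI : Subsingleton Γ(Z, U) := Module.subsingleton Γ(Y, V) _
    infer_instance
  letI := (g.appLE V U e).hom.toAlgebra
  show Module.Flat Γ(Y, V) Γ(Z, U)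
  refine flat_of_isTorsionFree hY hV fun a m ham => ?_
  by_cases ha : a = 0
  · exact Or.inl ha
  refine Or.inr (w.app_injective U ?_)
  rw [map_zero]
  have h1 : w.app U (g.appLE V U e a) * w.app U m = 0 := by
    rw [← map_mul]
    exact (congrArg (w.app U) ham).trans (map_zero _)
  refine (IsUnit.mul_right_eq_zero ?_).1 h1
  refine RingedSpace.isUnit_of_isUnit_germ Z'.toRingedSpace _ _ fun z hz => ?_
  refine (Z'.mem_basicOpen _ z hz).1 ?_
  rw [show Z'.basicOpen (w.app U (g.appLE V U e a)) = w ⁻¹ᵁ Z.basicOpen (g.appLE V U e a) from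
    (Scheme.preimage_basicOpen w (g.appLE V U e a)).symm, Scheme.basicOpen_appLE]
  refine ⟨hz, ?_⟩
  show g (w z) ∈ Y.basicOpen a
  rw [h z]
  exact ((genericPoint_spec Y).mem_open_set_iff (Y.basicOpen a).isOpen).2 (by
    obtain ⟨x, hx⟩ : (Y.basicOpen a : Set Y).Nonempty := by
      rw [Set.nonempty_iff_ne_empty]
      intro hemp
      exact ha ((basicOpen_eq_bot_iff a).1 (TopologicalSpace.Opens.ext hemp))
    exact ⟨x, trivial, hx⟩)

include hY in
/-- Existence and uniqueness of the flat closure. -/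
theorem exists_unique_flatClosure (f : X ⟶ Y) {Z' : Scheme.{u}} (z' : Z' ⟶ f.fiber (genericPoint Y))
    [IsClosedImmersion z'] :
    (∃ (Z : Scheme.{u}) (z : Z ⟶ X) (w : Z' ⟶ Z), IsClosedImmersion z ∧ Flat (z ≫ f) ∧
        IsPullback w z' z (f.fiberι (genericPoint Y))) ∧
      ∀ (Z₁ Z₂ : Scheme.{u}) (z₁ : Z₁ ⟶ X) (z₂ : Z₂ ⟶ X) (w₁ : Z' ⟶ Z₁) (w₂ : Z' ⟶ Z₂),
        IsClosedImmersion z₁ → IsClosedImmersion z₂ → Flat (z₁ ≫ f) → Flat (z₂ ≫ f) →
        IsPullback w₁ z' z₁ (f.fiberι (genericPoint Y)) → IsPullback w₂ z' z₂ (f.fiberι (genericPoint Y)) →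
        ∃ e : Z₁ ≅ Z₂, e.hom ≫ z₂ = z₁ := by
  have sq : IsPullback (f.fiberι (genericPoint Y)) (f.fiberToSpecResidueField (genericPoint Y)) f
      (Y.fromSpecResidueField (genericPoint Y)) := IsPullback.of_hasPullback _ _
  haveI : QuasiCompact (Y.fromSpecResidueField (genericPoint Y)) := quasiCompact_fromSpecResidueField _
  haveI : QuasiCompact (f.fiberι (genericPoint Y)) :=
    MorphismProperty.of_isPullback sq.flip inferInstance
  haveI : Flat (f.fiberι (genericPoint Y)) := MorphismProperty.of_isPullback sq.flip inferInstance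
  haveI : Mono (f.fiberι (genericPoint Y)) := MorphismProperty.of_isPullback
    (P := MorphismProperty.monomorphisms Scheme) sq.flip (inferInstanceAs (Mono _))
  constructor
  · let q := z' ≫ f.fiberι (genericPoint Y)
    haveI : IsSchemeTheoreticallyDominant q.toImage := ⟨ker_toImage q⟩
    have hfl : Flat (q.imageι ≫ f) := by
      refine flat_of_dominant hY _ q.toImage fun z => ?_
      rw [← Scheme.Hom.comp_apply, Scheme.Hom.toImage_imageι_assoc]
      show (z' ≫ f.fiberι (genericPoint Y) ≫ f) z = _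
      rw [sq.w, Scheme.Hom.comp_apply, Scheme.Hom.comp_apply]
      exact Scheme.fromSpecResidueField_apply _ _
    refine ⟨q.image, q.imageι, q.toImage, inferInstance, hfl, ?_⟩
    let j : Z' ⟶ pullback q.imageι (f.fiberι (genericPoint Y)) :=
      pullback.lift q.toImage z' q.toImage_imageι
    haveI : IsClosedImmersion (j ≫ pullback.snd _ _) := by rw [pullback.lift_snd]; infer_instance
    haveI : IsClosedImmersion j := IsClosedImmersion.of_comp j (pullback.snd _ _)
    have hj : IsPullback (𝟙 Z') j q.toImage (pullback.fst q.imageι (f.fiberι (genericPoint Y))) := by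
      refine IsPullback.of_horiz_isIso_mono ⟨?_⟩
      rw [Category.id_comp]
      exact (pullback.lift_fst _ _ _).symm
    haveI : IsSchemeTheoreticallyDominant j := IsSchemeTheoreticallyDominant.of_isPullback hj
    haveI : IsIso j := IsClosedImmersion.isIso_iff_ker_eq_bot.2 j.ker_eq_bot
    exact (IsPullback.of_hasPullback q.imageι (f.fiberι (genericPoint Y))).of_iso (asIso j).symm
      (Iso.refl _) (Iso.refl _) (Iso.refl _) (by simp [j]) (by simp [j]) (by simp) (by simp)
  · intro Z₁ Z₂ z₁ z₂ w₁ w₂ h₁ h₂ hf₁ hf₂ hp₁ hp₂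
    have key : ∀ (Z : Scheme.{u}) (z : Z ⟶ X) (w : Z' ⟶ Z), Flat (z ≫ f) →
        IsPullback w z' z (f.fiberι (genericPoint Y)) →
        z.ker = (z' ≫ f.fiberι (genericPoint Y)).ker := by
      intro Z z w hfl hp
      have big := hp.flip.paste_horiz sq.flip
      haveI : IsSchemeTheoreticallyDominant w := IsSchemeTheoreticallyDominant.of_isPullback big
      rw [← hp.w, Scheme.Hom.ker_comp, w.ker_eq_bot, Scheme.IdealSheafData.map_bot]
    have hk : z₁.ker = z₂.ker := (key Z₁ z₁ w₁ hf₁ hp₁).trans (key Z₂ z₂ w₂ hf₂ hp₂).symm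
    have l₁ : IsClosedImmersion.lift z₂ z₁ hk.ge ≫ z₂ = z₁ := IsClosedImmersion.lift_fac _ _ _
    have l₂ : IsClosedImmersion.lift z₁ z₂ hk.le ≫ z₁ = z₂ := IsClosedImmersion.lift_fac _ _ _
    refine ⟨⟨IsClosedImmersion.lift z₂ z₁ hk.ge, IsClosedImmersion.lift z₁ z₂ hk.le, ?_, ?_⟩, l₁⟩
    · rw [← cancel_mono z₁, Category.assoc, l₂, l₁, Category.id_comp]
    · rw [← cancel_mono z₂, Category.assoc, l₁, l₂, Category.id_comp]

end GrothLib.FlatClosure
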